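import Groth.Agent.QCohLib.Modules
import Groth.Agent.QCohLib.QCoh
import Groth.Agent.QCohLib.QcqsSections
import Groth.Agent.OmegaAffLib.StalkCrit
import Groth.Agent.LichtLib.Basic
import Groth.Agent.ModifLib.Leray
import Groth.Agent.NefH1Lib.Core
import Mathlib

/-!
# Sections: gluing modulo the image of a morphism
-/

set_option autoImplicit false
set_option linter.style.haveILetI false
set_option linter.unusedSectionVars false
set_option backward.isDefEq.respectTransparency false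
set_option backward.isDefEq.respectTransparency.types false
set_option maxHeartbeats 1000000

universe u

open CategoryTheory CategoryTheory.Limits AlgebraicGeometry TopologicalSpace Opposite

noncomputable section

namespace GorBlowLib

variable {X : Scheme.{u}}

/-- Restriction of sections. -/
abbrev rs (M : X.Modules) {U V : X.Opens} (h : V ≤ U) (x : Γ(M, U)) : Γ(M, V) :=
  M.presheaf.map (homOfLE h).op x

theorem rs_rs (M : X.Modules) {U V W : X.Opens} (h : V ≤ U) (h' : W ≤ V) (x : Γ(M, U)) :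
    rs M h' (rs M h x) = rs M (h'.trans h) x := by
  show (M.presheaf.map (homOfLE h).op ≫ M.presheaf.map (homOfLE h').op) x = _
  rw [← Functor.map_comp, ← op_comp, homOfLE_comp]

theorem rs_add (M : X.Modules) {U V : X.Opens} (h : V ≤ U) (x y : Γ(M, U)) :
    rs M h (x + y) = rs M h x + rs M h y := map_add (M.presheaf.map (homOfLE h).op).hom x y

theorem rs_sub (M : X.Modules) {U V : X.Opens} (h : V ≤ U) (x y : Γ(M, U)) :
    rs M h (x - y) = rs M h x - rs M h y := map_sub (M.presheaf.map (homOfLE h).op).hom x y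

theorem rs_zero (M : X.Modules) {U V : X.Opens} (h : V ≤ U) : rs M h (0 : Γ(M, U)) = 0 :=
  map_zero (M.presheaf.map (homOfLE h).op).hom

theorem rs_app {M N : X.Modules} (φ : M ⟶ N) {U V : X.Opens} (h : V ≤ U) (x : Γ(M, U)) :
    rs N h (φ.app U x) = φ.app V (rs M h x) :=
  (QCohLib.app_map φ (homOfLE h) x).symm

theorem eq_of_cover {ι : Type*} (M : X.Modules) (U : ι → X.Opens) {V : X.Opens} (hle : ∀ i, U i ≤ V)
    (hcov : V ≤ iSup U) {x y : Γ(M, V)} (h : ∀ i, rs M (hle i) x = rs M (hle i) y) : x = y :=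
  TopCat.Sheaf.eq_of_locally_eq' ((QCohLib.toAbF X).obj M) U V (fun i => homOfLE (hle i)) hcov x y h

theorem exists_glue_top {ι : Type*} (M : X.Modules) (U : ι → X.Opens) (hcov : ∀ x, ∃ i, x ∈ U i)
    (s : ∀ i, Γ(M, U i)) (h : ∀ i j, rs M (inf_le_left : U i ⊓ U j ≤ U i) (s i) = rs M inf_le_right (s j)) :
    ∃ t : Γ(M, (⊤ : X.Opens)), ∀ i, rs M le_top t = s i := by
  obtain ⟨t, ht, -⟩ := TopCat.Sheaf.existsUnique_gluing' ((QCohLib.toAbF X).obj M) U ⊤
    (fun i => homOfLE le_top) (fun x _ => Opens.mem_iSup.2 (hcov x)) s h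
  exact ⟨t, ht⟩

/-- A class which maps to zero in the cokernel is, over an affine open, an image. -/
theorem exists_of_π_app_eq_zero {P Q : X.Modules} [Coh.IsQCoh P] [Coh.IsQCoh Q] (Φ : P ⟶ Q) {U : X.Opens}
    (hU : IsAffineOpen U) (y : Γ(Q, U)) (hy : (cokernel.π Φ).app U y = 0) : ∃ p, Φ.app U p = y := by
  haveI := QCohLib.isQCoh_image Φ
  obtain ⟨z, hz⟩ := QCohLib.exists_of_app_eq_zero
    (S := ShortComplex.mk (Abelian.image.ι Φ) (cokernel.π Φ) (kernel.condition _))
    (ShortComplex.exact_of_f_is_kernel _ (kernelIsKernel _)) (inferInstanceAs (Mono (kernel.ι _))) y hy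
  obtain ⟨p, hp⟩ := OmegaAffLib.surjective_app_of_epi (φ := Abelian.factorThruImage Φ) hU z
  refine ⟨p, Eq.trans ?_ hz⟩
  show Φ.app U p = (Abelian.image.ι Φ).app U z
  rw [← hp]
  exact congrArg (fun ψ : P ⟶ Q => ψ.app U p) (Abelian.image.fac Φ).symm

theorem π_app_app {P Q : X.Modules} (Φ : P ⟶ Q) (U : X.Opens) (p : Γ(P, U)) :
    (cokernel.π Φ).app U (Φ.app U p) = 0 :=
  congrArg (fun ψ : P ⟶ cokernel Φ => ψ.app U p) (cokernel.condition Φ)

/-- When `H¹` of a kernel vanishes, a map is surjective on global sections. -/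
theorem surjective_top {S : ShortComplex X.Modules} (hS : S.ShortExact)
    (h : Subsingleton (Coh.HH X S.X₁ 1)) : Function.Surjective (S.g.app ⊤) := fun z => by
  obtain ⟨y, hy⟩ := LichtLib.surjective_g hS (p := 0) h ((ModifLib.h0Sec (X := X) S.X₃).symm z)
  refine ⟨ModifLib.h0Sec (X := X) S.X₂ y, ?_⟩
  refine Eq.trans ?_ ((congrArg (ModifLib.h0Sec (X := X) S.X₃) hy).trans
    ((ModifLib.h0Sec (X := X) S.X₃).apply_symm_apply z))
  letI : X.Over (Spec (CommRingCat.of Γ(X, ⊤))) := ⟨X.toSpecΓ⟩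
  exact (ModifLib.h0Sec_map (A := Γ(X, ⊤)) (X := X) S.g y).symm

theorem shortExact_image {P Q : X.Modules} (Φ : P ⟶ Q) :
    (ShortComplex.mk (Abelian.image.ι Φ) (cokernel.π Φ) (kernel.condition _)).ShortExact where
  exact := ShortComplex.exact_of_f_is_kernel _ (kernelIsKernel _)
  mono_f := inferInstanceAs (Mono (kernel.ι _))
  epi_g := inferInstanceAs (Epi (cokernel.π Φ))

variable (hvan : ∀ N : X.Modules, Coh.IsQCoh N → Subsingleton (Coh.HH X N 2))

include hvan in
/-- Compatible local sections modulo the image of a morphism out of an acyclic module come from a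
global one. -/
theorem exists_glue_mod {ι : Type*} (U : ι → X.Opens) (hU : ∀ i, IsAffineOpen (U i))
    (hcov : ∀ x, ∃ i, x ∈ U i) {P Q : X.Modules} [Coh.IsQCoh P] [Coh.IsQCoh Q]
    (hP : Subsingleton (Coh.HH X P 1)) (Φ : P ⟶ Q) (x : ∀ i, Γ(Q, U i))
    (h : ∀ i j, ∃ p, Φ.app (U i ⊓ U j) p = rs Q inf_le_left (x i) - rs Q inf_le_right (x j)) :
    ∃ q : Γ(Q, (⊤ : X.Opens)), ∀ i, ∃ p, Φ.app (U i) p = rs Q le_top q - x i := by
  let π := cokernel.π Φ
  obtain ⟨t, ht⟩ := exists_glue_top (cokernel Φ) U hcov (fun i => π.app (U i) (x i)) fun i j => by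
    rw [rs_app, rs_app, ← sub_eq_zero, ← map_sub]
    obtain ⟨p, hp⟩ := h i j
    rw [← hp]
    exact π_app_app Φ _ p
  haveI := QCohLib.isQCoh_image Φ
  have h1 : Subsingleton (Coh.HH X (Abelian.image Φ) 1) :=
    NefH1Lib.h1_of_epi hvan inferInstance inferInstance (Abelian.factorThruImage Φ) hP
  obtain ⟨q, hq⟩ := surjective_top (shortExact_image Φ) h1 t
  refine ⟨q, fun i => exists_of_π_app_eq_zero Φ (hU i) _ ?_⟩
  rw [map_sub, ← rs_app, sub_eq_zero, show π.app ⊤ q = t from hq]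
  exact ht i

/-- A submodule has no `H¹` as soon as global sections surject onto those of the quotient. -/
theorem subsingleton_H1_of_surjective {S : ShortComplex X.Modules} (hS : S.ShortExact)
    (h2 : Subsingleton (Coh.HH X S.X₂ 1)) (hsurj : Function.Surjective (S.g.app ⊤)) :
    Subsingleton (Coh.HH X S.X₁ 1) := by
  refine subsingleton_of_forall_eq 0 fun y => ?_
  obtain ⟨x, rfl⟩ := AtlasCoh.hExact₁ (QCohLib.toAbF_shortExact hS) 0 y (h2.elim _ _)
  obtain ⟨w, hw⟩ := hsurj (ModifLib.h0Sec (X := X) S.X₃ x)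
  obtain rfl : LichtLib.hm S.g 0 ((ModifLib.h0Sec (X := X) S.X₂).symm w) = x := by
    refine (ModifLib.h0Sec (X := X) S.X₃).injective ?_
    rw [← hw]
    letI : X.Over (Spec (CommRingCat.of Γ(X, ⊤))) := ⟨X.toSpecΓ⟩
    refine (ModifLib.h0Sec_map (A := Γ(X, ⊤)) (X := X) S.g _).trans ?_
    rw [AddEquiv.apply_symm_apply]
  show Abelian.Ext.comp (Abelian.Ext.comp _ (Abelian.Ext.mk₀ _) (add_zero 0))
    (QCohLib.toAbF_shortExact hS).extClass rfl = 0
  rw [Abelian.Ext.comp_assoc_of_second_deg_zero]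
  erw [
    (QCohLib.toAbF_shortExact hS).comp_extClass, Abelian.Ext.comp_zero]

end GorBlowLib
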