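import Groth.Agent.GorBlowLib.Sec
import Groth.Agent.Dual3Lib.ScalarD
import Groth.Agent.AmpleAffLib.Coprod
import Groth.Agent.HdgLefLib.Main
import Mathlib

/-!
# Frames of charts of an invertible ideal, and scalars acting on sections
-/

set_option autoImplicit false
set_option linter.style.haveILetI false
set_option linter.unusedSectionVars false
set_option backward.isDefEq.respectTransparency false
set_option backward.isDefEq.respectTransparency.types false
set_option maxHeartbeats 1000000

universe u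

open CategoryTheory CategoryTheory.Limits AlgebraicGeometry TopologicalSpace Opposite
open Groth.Agent

noncomputable section

namespace GorBlowLib

variable {A : Type u} [CommRing A] {X : Scheme.{u}} (f : X ⟶ Spec (CommRingCat.of A))

/-- An element of the base as a function on an open. -/
def aF (U : X.Opens) : A →+* Γ(X, U) :=
  (X.presheaf.map (homOfLE (le_top : U ≤ ⊤)).op).hom.comp (Coh.toGlobal f)

theorem aF_res {U V : X.Opens} (h : V ≤ U) (b : A) :
    X.presheaf.map (homOfLE h).op (aF f U b) = aF f V b := by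
  show (X.presheaf.map (homOfLE le_top).op ≫ X.presheaf.map (homOfLE h).op) _ = _
  rw [← Functor.map_comp, ← op_comp, homOfLE_comp]
  rfl

theorem rs_smul (M : X.Modules) {U V : X.Opens} (h : V ≤ U) (r : Γ(X, U)) (x : Γ(M, U)) :
    rs M h (r • x) = X.presheaf.map (homOfLE h).op r • rs M h x :=
  Scheme.Modules.map_smul M (homOfLE h) r x

theorem rs_aF (M : X.Modules) {U V : X.Opens} (h : V ≤ U) (b : A) (x : Γ(M, U)) :
    rs M h (aF f U b • x) = aF f V b • rs M h x := by
  rw [rs_smul, aF_res]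

theorem app_aF {M N : X.Modules} (φ : M ⟶ N) (U : X.Opens) (b : A) (x : Γ(M, U)) :
    φ.app U (aF f U b • x) = aF f U b • φ.app U x :=
  QCohLib.app_smul φ U _ x

/-- Multiplication by an element of the base. -/
def sA (M : X.Modules) (b : A) : M ⟶ M := Dual3Lib.sMod M (Coh.toGlobal f b)

theorem sA_app (M : X.Modules) (b : A) (U : X.Opens) (x : Γ(M, U)) : (sA f M b).app U x = aF f U b • x := rfl

/-- No torsion with respect to the base. -/
def TF (M : X.Modules) : Prop := ∀ (U : X.Opens) (b : A), b ≠ 0 → ∀ x : Γ(M, U), aF f U b • x = 0 → x = 0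

theorem TF.cancel {M : X.Modules} (h : TF f M) {U : X.Opens} {b : A} (hb : b ≠ 0) {x y : Γ(M, U)}
    (e : aF f U b • x = aF f U b • y) : x = y :=
  sub_eq_zero.1 (h U b hb _ (by rw [smul_sub, e, sub_self]))

theorem TF.mono {M : X.Modules} (h : TF f M) {b : A} (hb : b ≠ 0) : Mono (sA f M b) :=
  Preadditive.mono_of_cancel_zero _ fun g hg => Scheme.Modules.hom_ext _ _ fun U =>
    ConcreteCategory.hom_ext _ _ fun x => h U b hb _ (congrArg (fun φ : _ ⟶ M => φ.app U x) hg)

/-- Affine charts on each of which an element of the ideal divides all of the ideal. -/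
structure Frame (I : Ideal A) where
  n : ℕ
  a : Fin n → A
  mem : ∀ i, a i ∈ I
  ne : ∀ i, a i ≠ 0
  U : Fin n → X.Opens
  affine : ∀ i, IsAffineOpen (U i)
  cover : ∀ x, ∃ i, x ∈ U i
  dvd : ∀ i, ∀ b ∈ I, ∃ r : Γ(X, U i), aF f (U i) b = r * aF f (U i) (a i)
  inter : ∀ i j, ∃ r : Γ(X, U i), aF f (U i) (a j) = r * aF f (U i) (a i) ∧ X.basicOpen r ≤ U j
  base : Fin n

instance : HasFiniteBiproducts X.Modules := Abelian.hasFiniteBiproducts

section Bi

variable {ι : Type} [Finite ι] (F : ι → X.Modules)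

theorem bi_π_ι_self (j : ι) (U : X.Opens) (x : Γ(F j, U)) :
    (biproduct.π F j).app U ((biproduct.ι F j).app U x) = x :=
  congrArg (fun φ : F j ⟶ F j => φ.app U x) (biproduct.ι_π_self F j)

theorem bi_π_ι_ne {i j : ι} (h : i ≠ j) (U : X.Opens) (x : Γ(F i, U)) :
    (biproduct.π F j).app U ((biproduct.ι F i).app U x) = 0 :=
  congrArg (fun φ : F i ⟶ F j => φ.app U x) (biproduct.ι_π_ne F h)

theorem app_sum {κ : Type*} {M N : X.Modules} (s : Finset κ) (φ : κ → (M ⟶ N)) (U : X.Opens) (x : Γ(M, U)) :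
    (∑ i ∈ s, φ i).app U x = ∑ i ∈ s, (φ i).app U x := by
  classical
  induction s using Finset.induction with
  | empty => simp
  | insert a s ha ih => rw [Finset.sum_insert ha, Finset.sum_insert ha, ← ih]; rfl

theorem bi_total [Fintype ι] (U : X.Opens) (x : Γ(⨁ F, U)) :
    ∑ j, (biproduct.ι F j).app U ((biproduct.π F j).app U x) = x := by
  have h := congrArg (fun φ : ⨁ F ⟶ ⨁ F => φ.app U x)
    (show ∑ j, biproduct.π F j ≫ biproduct.ι F j = 𝟙 (⨁ F) from biproduct.total)
  simp only at h
  rw [app_sum] at h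
  exact h

theorem bi_ext [Fintype ι] {U : X.Opens} {x y : Γ(⨁ F, U)}
    (h : ∀ j, (biproduct.π F j).app U x = (biproduct.π F j).app U y) : x = y := by
  rw [← bi_total F U x, ← bi_total F U y]
  exact Finset.sum_congr rfl fun j _ => by rw [h]

theorem bi_lift_π {W : X.Modules} (g : ∀ j, W ⟶ F j) (j : ι) (U : X.Opens) (x : Γ(W, U)) :
    (biproduct.π F j).app U ((biproduct.lift g).app U x) = (g j).app U x :=
  congrArg (fun φ : W ⟶ F j => φ.app U x) (biproduct.lift_π g j)

theorem bi_ι_desc {W : X.Modules} (g : ∀ j, F j ⟶ W) (j : ι) (U : X.Opens) (x : Γ(F j, U)) :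
    (biproduct.desc g).app U ((biproduct.ι F j).app U x) = (g j).app U x :=
  congrArg (fun φ : F j ⟶ W => φ.app U x) (biproduct.ι_desc g j)

theorem isQCoh_bi (hF : ∀ j, Coh.IsQCoh (F j)) : Coh.IsQCoh (⨁ F) :=
  haveI : ∀ j, Coh.IsQCoh (F j) := hF
  QCohLib.isQCoh_of_isColimit (fun _ => inferInstance) (fun j => hF j.as) (biproduct.isColimit F)

theorem subsingleton_HH_bi [CompactSpace X] [X.IsSeparated] (hF : ∀ j, Coh.IsQCoh (F j)) (p : ℕ)
    (h : ∀ j, Subsingleton (Coh.HH X (F j) p)) : Subsingleton (Coh.HH X (⨁ F) p) :=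
  HdgLefLib.sub_iso ((biproduct.isoCoproduct F).trans
      (Sigma.whiskerEquiv (f := F) (g := fun j : ULift.{u} ι => F j.down) Equiv.ulift.{u, 0}.symm fun j => Iso.refl (F j) :
        (∐ F) ≅ ∐ fun j : ULift.{u} ι => F j.down)).symm p
    (AmpleAffLib.subsingleton_HH_sigma (F := fun j : ULift.{u} ι => F j.down) (fun _ => hF _) fun _ => h _)

end Bi

end GorBlowLib
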