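import Groth.Agent.GorBlowLib.Basic
import Groth.Agent.BlowUpLib.Props
import Groth.Agent.BlowUpLib.RegSmooth
import Groth.Agent.ModifLib.Max
import Groth.Agent.ParaFLib.Basic
import Mathlib

/-!
# A normalized blowing up with affine charts
-/

set_option autoImplicit false
set_option linter.style.haveILetI false
set_option linter.unusedSectionVars false
set_option backward.isDefEq.respectTransparency false
set_option backward.isDefEq.respectTransparency.types false
set_option maxHeartbeats 2000000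

universe u

open CategoryTheory CategoryTheory.Limits AlgebraicGeometry TopologicalSpace Opposite
open Groth.Agent BlowUpLib

noncomputable section

namespace GorBlowLib

variable {A : Type u} [CommRing A]

theorem app_aF' {X Y : Scheme.{u}} (ν : X ⟶ Y) (p : Y ⟶ Spec (CommRingCat.of A)) (U : Y.Opens) (b : A) :
    ν.app U (aF p U b) = aF (ν ≫ p) (ν ⁻¹ᵁ U) b := by
  show (Y.presheaf.map (homOfLE le_top).op ≫ ν.app U).hom (Coh.toGlobal p b) = _
  rw [ν.naturality]
  rfl

theorem appLE_aF {X Y : Scheme.{u}} (c : X ⟶ Y) (p : Y ⟶ Spec (CommRingCat.of A)) (U : Y.Opens) (V : X.Opens)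
    (h : V ≤ c ⁻¹ᵁ U) (b : A) : c.appLE U V h (aF p U b) = aF (c ≫ p) V b := by
  show X.presheaf.map (homOfLE h).op (c.app U (aF p U b)) = _
  rw [app_aF', aF_res]

theorem aF_spec {C : Type u} [CommRing C] (ι : A →+* C) (b : A) :
    aF (Spec.map (CommRingCat.ofHom ι)) ⊤ b = (Scheme.ΓSpecIso (CommRingCat.of C)).inv.hom (ι b) := by
  show (Spec (CommRingCat.of C)).presheaf.map (homOfLE (le_top : (⊤ : (Spec (CommRingCat.of C)).Opens) ≤ ⊤)).op
    (((Scheme.ΓSpecIso (CommRingCat.of A)).inv ≫ (Spec.map (CommRingCat.ofHom ι)).appTop).hom b) = _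
  rw [← Scheme.ΓSpecIso_inv_naturality]
  change (Spec (CommRingCat.of C)).presheaf.map (𝟙 _) _ = _
  rw [CategoryTheory.Functor.map_id]
  rfl

variable (I : Ideal A) {a : A} (ha : a ∈ I)

local notation "𝒜" => Rees.deg (reesAlgebra I)
local notation "pI" => (Proj (Rees.deg (reesAlgebra I)) ↘ Spec (CommRingCat.of A))

theorem exists_chart_data (b : A) (hb : b ∈ I) :
    ∃ r : Γ(Proj 𝒜, Proj.basicOpen 𝒜 (degOne I a ha)),
      aF pI (Proj.basicOpen 𝒜 (degOne I a ha)) b = r * aF pI (Proj.basicOpen 𝒜 (degOne I a ha)) a ∧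
      (Proj 𝒜).basicOpen r ≤ Proj.basicOpen 𝒜 (degOne I b hb) := by
  let c := Proj.awayι 𝒜 _ (degOne_mem I a ha) one_pos
  let U := Proj.basicOpen 𝒜 (degOne I a ha)
  have hr : c.opensRange = U := Proj.opensRange_awayι 𝒜 _ (degOne_mem I a ha) one_pos
  have hle : (⊤ : (Spec _).Opens) ≤ c ⁻¹ᵁ U := fun q _ => hr ▸ ⟨q, rfl⟩
  have hiso : Function.Bijective (c.appLE U ⊤ hle).hom := by
    haveI h1 : IsIso (c.app U) := c.isIso_app U hr.ge
    haveI h2 : IsIso (homOfLE hle) :=
      ⟨homOfLE le_top, Subsingleton.elim _ _, Subsingleton.elim _ _⟩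
    haveI : IsIso (c.appLE U ⊤ hle) := by
      show IsIso (c.app U ≫ (Spec _).presheaf.map (homOfLE hle).op)
      infer_instance
    exact ConcreteCategory.bijective_of_isIso _
  have hc : c ≫ pI = Spec.map (CommRingCat.ofHom (awayAlg I a ha)) := by
    change _ ≫ Proj.toSpecZero _ ≫ Spec.map _ = _
    rw [← Category.assoc, Proj.awayι_toSpecZero, ← Spec.map_comp]
    rfl
  let g := (Scheme.ΓSpecIso (CommRingCat.of (HomogeneousLocalization.Away 𝒜 (degOne I a ha)))).inv.hom
    (HomogeneousLocalization.Away.isLocalizationElem (degOne_mem I a ha) (degOne_mem I b hb))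
  obtain ⟨r, hr'⟩ := hiso.2 g
  refine ⟨r, hiso.1 ?_, fun x hx => ?_⟩
  · rw [map_mul, hr', appLE_aF, appLE_aF, hc, aF_spec, aF_spec, awayAlg_eq_mul_elem I hb ha, map_mul]
  · have hxU : x ∈ U := (Proj 𝒜).basicOpen_le r hx
    rw [← hr] at hxU
    obtain ⟨q, rfl⟩ := hxU
    have h1 : q ∈ (Spec _).basicOpen ((c.appLE U ⊤ hle) r) := by
      rw [AmpleLib.basicOpen_appLE]
      exact ⟨trivial, hx⟩
    rw [hr', basicOpen_eq_of_affine] at h1
    show q ∈ c ⁻¹ᵁ Proj.basicOpen 𝒜 (degOne I b hb)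
    rw [Proj.awayι_preimage_basicOpen _ (degOne_mem I a ha) one_pos (degOne_mem I b hb) one_pos]
    exact h1

end GorBlowLib
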