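import Groth.Agent.GorBlowLib.Chart
import Groth.Agent.ModTorsLib.Strict

/-!
# The normalized blowing up of an ideal is framed
-/

set_option autoImplicit false
set_option linter.style.haveILetI false
set_option linter.unusedSectionVars false
set_option backward.isDefEq.respectTransparency false
set_option backward.isDefEq.respectTransparency.types false
set_option maxHeartbeats 2000000

universe u

open CategoryTheory CategoryTheory.Limits AlgebraicGeometry TopologicalSpace Opposite
open Groth.Agent BlowUpLib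

noncomputable section

namespace GorBlowLib

theorem exists_framed_modification (A : Type u) [CommRing A] [IsDomain A] [IsLocalRing A] [IsNoetherianRing A]
    [IsIntegrallyClosed A] (hN : CAlg.IsNagata A) (I : Ideal A) (hI : I ≠ ⊥) :
    ∃ (X : Scheme.{u}) (f : X ⟶ Spec (CommRingCat.of A)), ModTorsLib.IsModif X f ∧ Nonempty (Frame f I) := by
  classical
  let P := Proj (Rees.deg (reesAlgebra I))
  let p : P ⟶ Spec (CommRingCat.of A) := P ↘ Spec (CommRingCat.of A)
  have hb : BlowUp.IsBlowUp p (specIdeal I) := isBlowUp_proj I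
  have hIne : specIdeal (A := A) I ≠ ⊥ := fun h => hI (by
    have h1 := congrArg (fun J : (Spec (CommRingCat.of A)).IdealSheafData => J.ideal ⟨⊤, isAffineOpen_top _⟩) h
    simp only [specIdeal_top, Scheme.IdealSheafData.ideal_bot] at h1
    exact (Ideal.map_eq_bot_iff_of_injective
      (ConcreteCategory.bijective_of_isIso (Scheme.ΓSpecIso (CommRingCat.of A)).inv).1).1 h1)
  have hNA : ∀ U : (Spec (CommRingCat.of A)).affineOpens, CAlg.IsNagata Γ(Spec (CommRingCat.of A), U.1) :=
    fun U => Groth.Agent.S9833.result (Spec (CommRingCat.of A)) (fun _ : PUnit.{u+1} => ⊤) (iSup_const)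
      (fun _ => isAffineOpen_top _) (fun _ => by
        letI := ((Scheme.ΓSpecIso (CommRingCat.of A)).inv.hom).toAlgebra
        haveI : Algebra.FiniteType A Γ(Spec (CommRingCat.of A), ⊤) :=
          RingHom.FiniteType.of_surjective _
            (ConcreteCategory.bijective_of_isIso (Scheme.ΓSpecIso (CommRingCat.of A)).inv).2
        exact Groth.Agent.S0566.result A hN Γ(Spec (CommRingCat.of A), ⊤)) U.1 U.2
  obtain ⟨hint, -, -⟩ := BlowUpLib.isIntegral_of_isBlowUp hb hIne
  haveI : IsProper p := BlowUpLib.isProper_of_isBlowUp hb fun W => by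
    haveI := IsLocallyNoetherian.component_noetherian W
    exact IsNoetherian.noetherian _
  haveI : IsLocallyNoetherian P := LocallyOfFiniteType.isLocallyNoetherian p
  haveI : QuasiCompact (P.fromSpecStalk (genericPoint P)) := inferInstance
  haveI : QuasiSeparated (P.fromSpecStalk (genericPoint P)) := inferInstance
  haveI := ModifLib.isFinite_normalizationι P (ModifLib.isNagata_affineOpens p hNA)
  let ν := Curv2.normalizationι P
  -- birationality
  obtain ⟨s, hs⟩ : ∃ s : Spec (CommRingCat.of A), s ∉ ((specIdeal (A := A) I).support : Set _) := by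
    by_contra hc
    push Not at hc
    exact hIne (Scheme.IdealSheafData.support_eq_top_iff.mp (SetLike.ext fun z => iff_of_true (hc z) trivial))
  obtain ⟨V, hsV, hVI⟩ := BlowUpLib.exists_affine s (W := (specIdeal (A := A) I).support.compl) hs
  haveI : IsIso (p ∣_ V.1) := EffCartLib.isIso_off_center _ p hb V.1 hVI
  haveI : IsAffine (V.1 : Scheme.{u}) := V.2
  let W : P.affineOpens := ⟨p ⁻¹ᵁ V.1, IsAffine.of_isIso (p ∣_ V.1)⟩
  haveI : Nonempty V.1 := ⟨⟨s, hsV⟩⟩
  haveI : Nonempty W.1 := ⟨inv (p ∣_ V.1) ⟨s, hsV⟩⟩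
  have hb' : IsIso (p.app V.1) := by
    have h : IsIso ((p ∣_ V.1).appTop) := (inferInstance : IsIso ((p ∣_ V.1).app ⊤))
    rw [morphismRestrict_appTop] at h
    have h2 : IsIso (p.app (V.1.ι ''ᵁ ⊤)) :=
      @IsIso.of_isIso_comp_right _ _ _ _ _ _ _ (@Functor.map_isIso _ _ _ _ _ _ _ _ (by infer_instance)) h
    rwa [Scheme.Opens.ι_image_top] at h2
  have hWc : IsIntegrallyClosed Γ(P, W.1) :=
    haveI := LocFFLib.isIntegrallyClosed_sections (ParaFLib.isNormal_spec A) V.1
    IsIntegrallyClosed.of_equiv (@asIso _ _ _ _ (p.app V.1) hb').commRingCatIsoToRingEquiv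
  haveI : IsIso (ν ∣_ (p ⁻¹ᵁ V.1)) := ModifLib.isIso_normalizationι_restrict P W hWc
  have hbir : IsIso ((ν ≫ p) ∣_ V.1) := by
    rw [morphismRestrict_comp]
    exact IsIso.comp_isIso' (by assumption) (by assumption)
  -- generators
  obtain ⟨S, hS⟩ := IsNoetherian.noetherian I
  let S' := S.filter (· ≠ 0)
  have hS' : Ideal.span (S' : Set A) = I := by
    refine le_antisymm (hS ▸ Ideal.span_mono (Finset.coe_subset.2 (Finset.filter_subset _ _))) (hS ▸ Ideal.span_le.2 fun z hz => ?_)
    rcases eq_or_ne z 0 with rfl | h0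
    · exact zero_mem _
    · exact Ideal.subset_span (Finset.mem_filter.2 ⟨hz, h0⟩)
  have hmem : ∀ i : Fin S'.card, (S'.equivFin.symm i : A) ∈ I := fun i =>
    hS'.le (Ideal.subset_span (S'.equivFin.symm i).2)
  have hcard : 0 < S'.card := Finset.card_pos.2 (Finset.nonempty_iff_ne_empty.2 fun he => hI (by
    rw [← hS', he, Finset.coe_empty, Ideal.span_empty]))
  let U₀ : Fin S'.card → P.Opens := fun i => Proj.basicOpen _ (degOne I _ (hmem i))
  refine ⟨Curv2.normalization P, ν ≫ p,
    ⟨inferInstance, inferInstance, LocFFLib.normalization_isNormal P, V.1, ⟨s, hsV⟩, hbir⟩, ⟨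
    { n := S'.card
      a := fun i => S'.equivFin.symm i
      mem := hmem
      ne := fun i => (Finset.mem_filter.1 (S'.equivFin.symm i).2).2
      U := fun i => ν ⁻¹ᵁ U₀ i
      affine := fun i => (Proj.isAffineOpen_basicOpen _ _ (degOne_mem I _ (hmem i)) one_pos).preimage ν
      cover := fun x => ?_
      dvd := fun i b hb => ?_
      inter := fun i j => ?_
      base := ⟨0, hcard⟩ }⟩⟩
  · obtain ⟨⟨a, ha⟩, haS, hx⟩ := exists_degOne_notMem_of_span I (S' : Set A) hS' (ν x)
    refine ⟨S'.equivFin ⟨a, haS⟩, ?_⟩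
    show ν x ∈ U₀ _
    simp only [U₀, Equiv.symm_apply_apply]
    exact hx
  · obtain ⟨r, hr, -⟩ := exists_chart_data I (hmem i) b hb
    refine ⟨ν.app _ r, ?_⟩
    rw [← app_aF', ← app_aF', ← map_mul]
    exact congrArg _ hr
  · obtain ⟨r, hr, hle⟩ := exists_chart_data I (hmem i) _ (hmem j)
    refine ⟨ν.app _ r, ?_, ?_⟩
    · rw [← app_aF', ← app_aF', ← map_mul]
      exact congrArg _ hr
    · rw [← Scheme.preimage_basicOpen]
      exact Scheme.Hom.preimage_mono ν hle

end GorBlowLib
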