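import Groth.Agent.GorBlowLib.Step
import Groth.Agent.TwistLib.Basic

/-!
# A module with the sections of the ideal is invertible
-/

set_option autoImplicit false
set_option linter.style.haveILetI false
set_option linter.unusedSectionVars false
set_option backward.isDefEq.respectTransparency false
set_option backward.isDefEq.respectTransparency.types false
set_option maxHeartbeats 2000000

universe u

open CategoryTheory CategoryTheory.Limits AlgebraicGeometry TopologicalSpace Opposite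
open Groth.Agent

noncomputable section

namespace GorBlowLib

variable {A : Type u} [CommRing A] [IsDomain A] {X : Scheme.{u}} {f : X ⟶ Spec (CommRingCat.of A)} {I : Ideal A}
  (F : Frame f I) (M : X.Modules) [Coh.IsQCoh M] (hTF : TF f M)
  (hMt : Subsingleton (Coh.HH X (Mt F M) 1))
  (hvan : ∀ N : X.Modules, Coh.IsQCoh N → Subsingleton (Coh.HH X N 2))

include hTF hMt hvan in
/-- Global sections generate the sections over a chart. -/
theorem mem_span_chart [CompactSpace X] [X.IsSeparated] (k : Fin F.n) (s : Γ(M, F.U k)) :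
    s ∈ Submodule.span Γ(X, F.U k) (Set.range (rs M (le_top : F.U k ≤ ⊤))) := by
  choose r hr hle using fun j => F.inter j k
  have hqs : ∀ j, IsQuasiSeparated (F.U j : Set X) := fun j => (F.affine j).isQuasiSeparated
  choose m t ht using fun j => QCohLib.exists_pow_smul_extend (M := M) (hqs j) (r j) (F.U j)
    (F.affine j).isCompact le_rfl (rs M (inf_le_right.trans (hle j)) s)
  let N := Finset.univ.sup m
  let τ : ∀ j, Γ(M, F.U j) := fun j => aF f (F.U j) (F.a j ^ N) • (r j ^ (N - m j) • t j)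
  -- the extensions agree with the scaled section where both are visible
  have key : ∀ j (W : X.Opens) (h₁ : W ≤ F.U j) (h₂ : W ≤ X.basicOpen (r j)),
      rs M h₁ (τ j) = aF f W (F.a k ^ N) • rs M (h₂.trans (hle j)) s := by
    intro j W h₁ h₂
    have h := congrArg (rs M (le_inf h₁ h₂)) (ht j)
    simp only [rs_rs, rs_smul, map_pow, QCohLib.ringMap_map', homOfLE_comp] at h
    simp only [τ]
    rw [rs_aF, rs_smul, map_pow (ConcreteCategory.hom (X.presheaf.map (homOfLE h₁).op)), h, smul_smul, smul_smul, mul_assoc, ← pow_add,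
      Nat.sub_add_cancel (Finset.le_sup (f := m) (Finset.mem_univ j))]
    congr 1
    rw [← aF_res f h₁ (F.a j ^ N), ← aF_res f h₁ (F.a k ^ N), map_pow (aF f (F.U j)), map_pow (aF f (F.U j)),
      hr j, map_pow, map_pow, map_mul, mul_pow, mul_comm]
  -- sections killed after inverting the ratio vanish
  have kill : ∀ j (W : X.Opens) (hW : IsCompact (W : Set X)) (h₁ : W ≤ F.U j) (δ : Γ(M, W)),
      rs M (inf_le_left : W ⊓ X.basicOpen (r j) ≤ W) δ = 0 → δ = 0 := by
    intro j W hW h₁ δ hδ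
    obtain ⟨e, he⟩ := QCohLib.exists_pow_smul_eq_zero (M := M) (r j) W hW h₁ δ hδ
    refine hTF W (F.a k ^ e) (pow_ne_zero _ (F.ne k)) δ ?_
    rw [← aF_res f h₁, map_pow, hr, map_pow, map_mul, mul_pow, mul_comm, mul_smul, he, smul_zero]
  have hcpt : ∀ i j, IsCompact ((F.U i ⊓ F.U j : X.Opens) : Set X) := fun i j =>
    ((F.affine i).inf (F.affine j)).isCompact
  obtain ⟨T, hT⟩ := exists_glue_top M F.U F.cover τ fun i j => by
    refine sub_eq_zero.1 (kill i _ (hcpt i j) inf_le_left _ (kill j _ ?_ (inf_le_left.trans inf_le_right) _ ?_))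
    · obtain ⟨hi⟩ : Nonempty (IsAffineOpen (F.U i ⊓ F.U j ⊓ X.basicOpen (r i))) :=
        ⟨by rw [← Scheme.basicOpen_res X (r i) (homOfLE (inf_le_left : F.U i ⊓ F.U j ≤ F.U i)).op]
            exact ((F.affine i).inf (F.affine j)).basicOpen _⟩
      exact hi.isCompact
    · rw [rs_rs, rs_sub, rs_rs, rs_rs,
        key i _ _ (inf_le_left.trans inf_le_right), key j _ _ inf_le_right, sub_self]
  have hTk : rs M (le_top : F.U k ≤ ⊤) T = aF f (F.U k) (F.a k ^ N) • s := by
    refine eq_of_cover M (fun j => F.U k ⊓ F.U j) (fun _ => inf_le_left) (fun z hz => ?_) fun j => ?_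
    · obtain ⟨j, hj⟩ := F.cover z
      exact Opens.mem_iSup.2 ⟨j, hz, hj⟩
    · refine sub_eq_zero.1 (kill j _ (hcpt k j) inf_le_right _ ?_)
      rw [rs_sub, rs_rs, rs_rs, rs_rs, rs_aF,
        show rs M _ T = rs M (inf_le_left.trans inf_le_right : (F.U k ⊓ F.U j) ⊓ X.basicOpen (r j) ≤ F.U j)
          (rs M le_top T) from (rs_rs M _ _ T).symm, hT, key j _ _ inf_le_right, sub_self]
  obtain ⟨y, hy, hy'⟩ := mem_span_of_inP F M hTF hMt hvan N T (fun j => ⟨_, (hT j).symm⟩) k
  rwa [TF.cancel f hTF (pow_ne_zero N (F.ne k)) (hTk.symm.trans hy')]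

include hTF hMt hvan in
/-- When the global sections are those of the ideal the module is invertible. -/
theorem isInvertible_of_frame [CompactSpace X] [X.IsSeparated] (e : I → Γ(M, (⊤ : X.Opens)))
    (he : Function.Surjective e) (hrel : ∀ b b' : I, aF f ⊤ (b : A) • e b' = aF f ⊤ (b' : A) • e b)
    (hfree : ∀ k (V : X.Opens) (_ : V ≤ F.U k) (g : Γ(X, V)),
      g • rs M (le_top : V ≤ ⊤) (e ⟨F.a k, F.mem k⟩) = 0 → g = 0) : PicF.IsInvertible M := by
  refine TwistLib.isInvertible_of_genOn F.U F.cover (fun k => rs M le_top (e ⟨F.a k, F.mem k⟩))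
    fun k V hV => ?_
  let σ := rs M (le_top : F.U k ≤ ⊤) (e ⟨F.a k, F.mem k⟩)
  have htop : ∀ s : Γ(M, F.U k), ∃ g : Γ(X, F.U k), g • σ = s := by
    intro s
    refine Submodule.mem_span_singleton.1 (Submodule.span_le.2 ?_ (mem_span_chart F M hTF hMt hvan k s))
    rintro _ ⟨w, rfl⟩
    obtain ⟨b, rfl⟩ := he w
    obtain ⟨r, hr⟩ := F.dvd k b b.2
    refine Submodule.mem_span_singleton.2 ⟨r, TF.cancel f hTF (F.ne k) ?_⟩
    rw [smul_smul, mul_comm, ← hr]
    show aF f (F.U k) (b : A) • rs M le_top _ = _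
    rw [← rs_aF, hrel b ⟨F.a k, F.mem k⟩, rs_aF]
  have hres : ∀ {W : X.Opens} (h : W ≤ V), rs M h (AmpleLib.res M hV σ) = rs M le_top (e ⟨F.a k, F.mem k⟩) :=
    fun h => by rw [AmpleLib.res, rs_rs, rs_rs]
  refine ⟨fun g g' hg => sub_eq_zero.1 (hfree k V hV _ ?_), fun s => ?_⟩
  · simp only at hg
    rw [← hres le_rfl, sub_smul, show rs M le_rfl (AmpleLib.res M hV σ) = AmpleLib.res M hV σ from
      AmpleLib.res_refl M _]
    exact sub_eq_zero.2 hg
  · have hloc : ∀ z : V, ∃ (W : X.Opens) (h : W ≤ V) (g : Γ(X, W)),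
        z.1 ∈ W ∧ g • rs M le_top (e ⟨F.a k, F.mem k⟩) = rs M h s := by
      intro z
      obtain ⟨c, hcV, hzc⟩ := (F.affine k).exists_basicOpen_le z (hV z.2)
      obtain ⟨n, t, ht⟩ := (QCohLib.localizingAt_of_isQCoh (F.affine k) M c).exists_extend (rs M hcV s)
      obtain ⟨g, rfl⟩ := htop t
      obtain ⟨v, hv⟩ := (QCohLib.isUnit_res c (le_refl (X.basicOpen c))).pow n
      refine ⟨X.basicOpen c, hcV, ↑v⁻¹ * X.presheaf.map (homOfLE (X.basicOpen_le c)).op g, hzc, ?_⟩
      rw [mul_smul, ← rs_rs M (le_top : F.U k ≤ ⊤) (X.basicOpen_le c), ← rs_smul, show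
        rs M (X.basicOpen_le c) (g • rs M le_top (e ⟨F.a k, F.mem k⟩)) = _ from ht, ← hv, smul_smul,
        Units.inv_mul, one_smul]
    choose W hWV g hzW hg using hloc
    obtain ⟨G, hG, -⟩ := TopCat.Sheaf.existsUnique_gluing' X.sheaf W V (fun z => homOfLE (hWV z))
      (fun z hz => Opens.mem_iSup.2 ⟨⟨z, hz⟩, hzW ⟨z, hz⟩⟩) g fun z z' => by
        refine sub_eq_zero.1 (hfree k _ (inf_le_left.trans ((hWV z).trans hV)) _ ?_)
        rw [sub_smul, sub_eq_zero]
        have h1 := congrArg (rs M (inf_le_left : W z ⊓ W z' ≤ W z)) (hg z)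
        have h2 := congrArg (rs M (inf_le_right : W z ⊓ W z' ≤ W z')) (hg z')
        rw [rs_smul, rs_rs, rs_rs] at h1 h2
        exact h1.trans h2.symm
    let G' : Γ(X, V) := G
    refine ⟨G', eq_of_cover M W hWV (fun z hz => Opens.mem_iSup.2 ⟨⟨z, hz⟩, hzW ⟨z, hz⟩⟩) fun z => ?_⟩
    show rs M _ (G' • AmpleLib.res M hV σ) = _
    rw [rs_smul, hres, ← hg z]
    exact congrArg (· • _) (hG z)

end GorBlowLib
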