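import Groth.Agent.TraceGRLib.ExtDim2
import Mathlib

/-!
# The dualizing module as an ideal, and splitting of extensions by it
-/

set_option autoImplicit false
set_option linter.style.haveILetI false
set_option linter.unusedSectionVars false
set_option backward.isDefEq.respectTransparency false
set_option backward.isDefEq.respectTransparency.types false
set_option maxHeartbeats 1000000

universe u

open CategoryTheory CategoryTheory.Limits CategoryTheory.Pretriangulated IsLocalRing
open Groth.Agent Groth.Agent.DualCxLib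

attribute [local instance] HasDerivedCategory.standard

noncomputable section

namespace GorBlowLib

variable {A : Type u} [CommRing A] [IsDomain A] [IsLocalRing A] [IsNoetherianRing A]
  {ωA : Type u} [AddCommGroup ωA] [Module A ωA] (hω : Dual.IsDualizing A (Dual.inD A ωA))
  (hdim : ringKrullDim A = 2)

include hω in
theorem finite_dualizing : Module.Finite A ωA :=
  haveI : Module.Finite A ((DerivedCategory.singleFunctor (ModuleCat.{u} A) 0 ⋙
      DerivedCategory.homologyFunctor (ModuleCat.{u} A) 0).obj (ModuleCat.of A ωA)) := hω.finite_cohomology 0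
  Module.Finite.equiv (((DerivedCategory.singleFunctorCompHomologyFunctorIso (ModuleCat.{u} A) 0).app
    (ModuleCat.of A ωA)).toLinearEquiv : Dual.HD A (Dual.inD A ωA) 0 ≃ₗ[A] ωA)

include hω in
theorem exists_smul_eq (T : ωA →ₗ[A] ωA) : ∃ c : A, ∀ y, T y = c • y := by
  let S := DerivedCategory.singleFunctor (ModuleCat.{u} A) 0
  obtain ⟨c, hc⟩ := hω.toEnd_bijective.2 (S.map (ModuleCat.ofHom T))
  refine ⟨c, fun y => ?_⟩
  have h : ModuleCat.ofHom T = c • 𝟙 (ModuleCat.of A ωA) := S.map_injective (by
    rw [Functor.map_smul, CategoryTheory.Functor.map_id]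
    exact hc.symm)
  exact congrArg (fun φ : ModuleCat.of A ωA ⟶ ModuleCat.of A ωA => φ.hom y) h

include hω in
theorem nontrivial_dualizing : Nontrivial ωA := by
  by_contra hn
  haveI := not_nontrivial_iff_subsingleton.1 hn
  obtain ⟨c, hc⟩ := hω.toEnd_bijective.2 0
  let S := DerivedCategory.singleFunctor (ModuleCat.{u} A) 0
  have h : ∀ a : A, a • 𝟙 (Dual.inD A ωA) = 0 := fun a => by
    show a • 𝟙 (S.obj (ModuleCat.of A ωA)) = 0
    rw [← CategoryTheory.Functor.map_id, ← Functor.map_smul,
      show a • 𝟙 (ModuleCat.of A ωA) = 0 from ModuleCat.hom_ext (LinearMap.ext fun y => Subsingleton.elim _ _),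
      Functor.map_zero]
  exact one_ne_zero (hω.toEnd_bijective.1 ((h 1).trans (h 0).symm))

omit [IsLocalRing A] [IsNoetherianRing A] in
/-- A finite module without torsion has a nonzero functional. -/
theorem exists_functional (M : Type u) [AddCommGroup M] [Module A M] [Module.Finite A M] [Nontrivial M]
    (htf : ∀ (a : A), a ≠ 0 → ∀ y : M, a • y = 0 → y = 0) : ∃ φ : M →ₗ[A] A, φ ≠ 0 := by
  classical
  let K := FractionRing A
  let g := LocalizedModule.mkLinearMap (nonZeroDivisors A) M
  have hg : Function.Injective g := (injective_iff_map_eq_zero g).2 fun y hy => by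
    obtain ⟨c, hc⟩ := (IsLocalizedModule.eq_zero_iff (nonZeroDivisors A) g).1 hy
    exact htf c (nonZeroDivisors.coe_ne_zero c) y hc
  obtain ⟨y, hy⟩ := exists_ne (0 : M)
  obtain ⟨l, hl⟩ : ∃ l : LocalizedModule (nonZeroDivisors A) M →ₗ[Localization (nonZeroDivisors A)]
      Localization (nonZeroDivisors A), l (g y) ≠ 0 := by
    letI : Field (Localization (nonZeroDivisors A)) := (IsFractionRing.toField A : Field (FractionRing A))
    obtain ⟨b⟩ : Nonempty (Σ ι : Type u, Module.Basis ι (Localization (nonZeroDivisors A))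
        (LocalizedModule (nonZeroDivisors A) M)) :=
      ⟨⟨_, Module.Basis.ofVectorSpace _ _⟩⟩
    by_contra hl
    push Not at hl
    refine hy (hg ((b.2.ext_elem fun i => ?_).trans (map_zero g).symm))
    rw [map_zero, Finsupp.zero_apply]
    exact hl (b.2.coord i)
  obtain ⟨s, hs⟩ := (Module.Finite.fg_top : (⊤ : Submodule A M).FG)
  let φ₀ : M →ₗ[A] Localization (nonZeroDivisors A) := (l.restrictScalars A).comp g
  obtain ⟨c, hc⟩ := IsLocalization.exist_integer_multiples_of_finset (nonZeroDivisors A)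
    (s.image φ₀)
  have hr : ∀ z : M, ∃ r : A, algebraMap A (Localization (nonZeroDivisors A)) r = (c : A) • φ₀ z := fun z => by
    have hz : z ∈ Submodule.span A (s : Set M) := hs ▸ Submodule.mem_top
    induction hz using Submodule.span_induction with
    | mem w hw =>
      obtain ⟨r, hr⟩ := hc _ (Finset.mem_image_of_mem φ₀ hw)
      exact ⟨r, hr⟩
    | zero => exact ⟨0, by simp⟩
    | add w w' _ _ h h' =>
      obtain ⟨r, hr⟩ := h
      obtain ⟨r', hr'⟩ := h'
      exact ⟨r + r', by rw [map_add, hr, hr', map_add, smul_add]⟩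
    | smul a w _ h =>
      obtain ⟨r, hr⟩ := h
      exact ⟨a * r, by rw [map_mul, hr, map_smul, smul_comm, Algebra.smul_def a]⟩
  choose r hr using hr
  have hinj : Function.Injective (algebraMap A (Localization (nonZeroDivisors A))) :=
    IsLocalization.injective _ le_rfl
  refine ⟨{ toFun := r
            map_add' := fun z z' => hinj (by rw [map_add, hr, hr, hr, map_add, smul_add])
            map_smul' := fun a z => hinj (by
              rw [RingHom.id_apply, smul_eq_mul, map_mul, hr, hr, map_smul, smul_comm, Algebra.smul_def a]) }, ?_⟩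
  intro h
  have h0 : r y = 0 := LinearMap.congr_fun h y
  have h1 := hr y
  rw [h0, map_zero, Algebra.smul_def] at h1
  rcases mul_eq_zero.1 h1.symm with h2 | h2
  · exact nonZeroDivisors.coe_ne_zero c (hinj (h2.trans (map_zero _).symm))
  · exact hl h2

include hω hdim in
/-- The dualizing module is isomorphic to a nonzero ideal. -/
theorem exists_ideal : ∃ (I : Ideal A), I ≠ ⊥ ∧ Nonempty (ωA ≃ₗ[A] I) := by
  haveI := finite_dualizing hω
  haveI := nontrivial_dualizing hω
  have htf : ∀ (a : A), a ≠ 0 → ∀ y : ωA, a • y = 0 → y = 0 := fun a ha y hy =>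
    isSMulRegular_iff_right_eq_zero_of_smul.1 (TraceGRLib.isSMulRegular_dualizing hω hdim ha) y hy
  obtain ⟨φ, hφ⟩ := exists_functional ωA htf
  obtain ⟨x, hx⟩ : ∃ x, φ x ≠ 0 := by
    by_contra hh
    push Not at hh
    exact hφ (LinearMap.ext hh)
  obtain ⟨c, hc⟩ := exists_smul_eq hω (φ.smulRight x)
  have hinj : Function.Injective φ := (injective_iff_map_eq_zero φ).2 fun y hy => by
    have hc0 : c ≠ 0 := fun h0 => by
      have := hc x
      rw [LinearMap.smulRight_apply, h0, zero_smul] at this
      exact hx (by rw [htf _ hx x this, map_zero])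
    have := hc y
    rw [LinearMap.smulRight_apply, hy, zero_smul] at this
    exact htf c hc0 y this.symm
  refine ⟨LinearMap.range φ, fun h => hx ?_, ⟨LinearEquiv.ofInjective φ hinj⟩⟩
  have : φ x ∈ LinearMap.range φ := ⟨x, rfl⟩
  rw [h, Submodule.mem_bot] at this
  exact this

include hω in
/-- Extensions of the ideal by the dualizing module split. -/
theorem exists_split (hdim : ringKrullDim A = 2) {I : Ideal A} (j : ωA ≃ₗ[A] I) (G : Submodule A (↥I × ωA))
    (a₀ : A) (hlift : ∀ b : I, ∃ v, (b, v) ∈ G) (hzero : ∀ v, ((0 : I), v) ∈ G ↔ ∃ w, v = a₀ • w) (ha : a₀ ≠ 0) :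
    ∃ s : I →ₗ[A] ωA, ∀ b, (b, s b) ∈ G := by
  let i : ωA →ₗ[A] G := LinearMap.codRestrict G ((LinearMap.inr A I ωA).comp (a₀ • LinearMap.id))
    fun w => (hzero _).2 ⟨w, rfl⟩
  let p : G →ₗ[A] ωA := j.symm.toLinearMap.comp ((LinearMap.fst A I ωA).comp G.subtype)
  let S : ShortComplex (ModuleCat.{u} A) := ShortComplex.mk (ModuleCat.ofHom i) (ModuleCat.ofHom p)
    (ModuleCat.hom_ext (LinearMap.ext fun w => j.symm.map_zero))
  have hS : S.ShortExact :=
    { exact := (ShortComplex.moduleCat_exact_iff S).2 fun g hg => by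
        have h0 : g.1.1 = 0 := j.symm.map_eq_zero_iff.1 hg
        obtain ⟨w, hw⟩ := (hzero g.1.2).1 (by
          have h2 := g.2
          rwa [show (g.1 : ↥I × ωA) = (0, g.1.2) from Prod.ext h0 rfl] at h2)
        exact ⟨w, Subtype.ext (Prod.ext h0.symm hw.symm)⟩
      mono_f := (ModuleCat.mono_iff_injective _).2 ((injective_iff_map_eq_zero i).2 fun w hw =>
        isSMulRegular_iff_right_eq_zero_of_smul.1 (TraceGRLib.isSMulRegular_dualizing hω hdim ha) w
          (congrArg (fun g : G => g.1.2) hw))
      epi_g := (ModuleCat.epi_iff_surjective _).2 fun y => by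
        obtain ⟨v, hv⟩ := hlift (j y)
        exact ⟨⟨_, hv⟩, j.symm_apply_apply y⟩ }
  haveI := hω.ext_self_subsingleton 1 one_ne_zero
  obtain ⟨z, hz⟩ := Triangle.coyoneda_exact₃ _ hS.singleTriangle_distinguished
    (𝟙 hS.singleTriangle.obj₃) (Subsingleton.elim (α := Dual.inD A ωA ⟶ (Dual.inD A ωA)⟦(1 : ℤ)⟧) _ _)
  obtain ⟨q, rfl⟩ := (DerivedCategory.singleFunctor (ModuleCat.{u} A) 0).map_surjective
    (X := ModuleCat.of A ωA) (Y := S.X₂) z
  have hq : q ≫ S.g = 𝟙 _ := (DerivedCategory.singleFunctor (ModuleCat.{u} A) 0).map_injective (by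
    rw [Functor.map_comp, CategoryTheory.Functor.map_id]
    exact hz.symm)
  refine ⟨(LinearMap.snd A I ωA).comp (G.subtype.comp (q.hom.comp j.symm.toLinearMap)), fun b => ?_⟩
  let g : G := q.hom (j.symm b)
  have h1 : j.symm g.1.1 = j.symm b := congrArg (fun φ : ModuleCat.of A ωA ⟶ ModuleCat.of A ωA =>
    φ.hom (j.symm b)) hq
  have h2 := g.2
  rwa [show (g.1 : ↥I × ωA) = (b, g.1.2) from Prod.ext (j.symm.injective h1) rfl] at h2

end GorBlowLib
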