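import Groth.Agent.GorBlowLib.Basic

/-!
# The twist by the inverse of the ideal has no `H¹`
-/

set_option autoImplicit false
set_option linter.style.haveILetI false
set_option linter.unusedSectionVars false
set_option backward.isDefEq.respectTransparency false
set_option backward.isDefEq.respectTransparency.types false
set_option maxHeartbeats 1000000

universe u

open CategoryTheory CategoryTheory.Limits AlgebraicGeometry TopologicalSpace Opposite
open Groth.Agent

noncomputable section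

namespace GorBlowLib

variable {A : Type u} [CommRing A] {X : Scheme.{u}} {f : X ⟶ Spec (CommRingCat.of A)} {I : Ideal A}
  (F : Frame f I) (M : X.Modules) [Coh.IsQCoh M] (hTF : TF f M)

/-- What cuts out the twist inside the module. -/
def cut : M ⟶ ⨁ fun _ : Fin F.n => cokernel (sA f M (F.a F.base)) :=
  biproduct.lift fun i => sA f M (F.a i) ≫ cokernel.π (sA f M (F.a F.base))

/-- The twist by the inverse of the ideal, scaled by the base element. -/
abbrev Mt : X.Modules := kernel (cut F M)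

/-- Its inclusion. -/
abbrev inc : Mt F M ⟶ M := kernel.ι (cut F M)

instance isQCoh_Mt : Coh.IsQCoh (Mt F M) :=
  haveI := QCohLib.isQCoh_cokernel (sA f M (F.a F.base))
  haveI := isQCoh_bi (fun _ : Fin F.n => cokernel (sA f M (F.a F.base))) fun _ => inferInstance
  QCohLib.isQCoh_kernel _

/-- The division by the base element. -/
def mu (i : Fin F.n) : Mt F M ⟶ M :=
  haveI := TF.mono f hTF (F.ne F.base)
  Abelian.monoLift (sA f M (F.a F.base)) (inc F M ≫ sA f M (F.a i)) (by
    have h := congrArg (fun φ => φ ≫ biproduct.π (fun _ : Fin F.n => cokernel (sA f M (F.a F.base))) i)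
      (kernel.condition (cut F M))
    simp only [zero_comp, Category.assoc] at h
    rw [show cut F M ≫ biproduct.π _ i = sA f M (F.a i) ≫ cokernel.π _ from biproduct.lift_π _ _] at h
    rw [Category.assoc]
    exact h)

theorem mu_spec (i : Fin F.n) (U : X.Opens) (z : Γ(Mt F M, U)) :
    aF f U (F.a F.base) • (mu F M hTF i).app U z = aF f U (F.a i) • (inc F M).app U z := by
  haveI := TF.mono f hTF (F.ne F.base)
  exact congrArg (fun φ : Mt F M ⟶ M => φ.app U z)
    (Abelian.monoLift_comp (sA f M (F.a F.base)) (inc F M ≫ sA f M (F.a i)) _)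

theorem exists_inc {U : X.Opens} (c : Γ(M, U))
    (h : ∀ i, ∃ d, aF f U (F.a F.base) • d = aF f U (F.a i) • c) : ∃ z, (inc F M).app U z = c := by
  refine QCohLib.exists_of_app_eq_zero (S := ShortComplex.mk (inc F M) (cut F M) (kernel.condition _))
    (ShortComplex.exact_of_f_is_kernel _ (kernelIsKernel _)) (inferInstanceAs (Mono (inc F M))) c ?_
  refine bi_ext _ fun i => ?_
  show (biproduct.π (fun _ : Fin F.n => cokernel (sA f M (F.a F.base))) i).app U ((cut F M).app U c) = _
  rw [map_zero, show (biproduct.π (fun _ : Fin F.n => cokernel (sA f M (F.a F.base))) i).app U ((cut F M).app U c) =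
    (sA f M (F.a i) ≫ cokernel.π (sA f M (F.a F.base))).app U c from bi_lift_π _ _ i U c]
  obtain ⟨d, hd⟩ := h i
  show (cokernel.π (sA f M (F.a F.base))).app U ((sA f M (F.a i)).app U c) = 0
  rw [sA_app, ← hd, ← sA_app]
  exact π_app_app _ U d

variable {V : Type u} [AddCommGroup V] [Module A V] (Φ : Γ(M, (⊤ : X.Opens)) ≃+ V)
  (hΦ : ∀ (b : A) x, Φ (aF f ⊤ b • x) = b • Φ x)
  (hsplit : ∀ (G : Submodule A (↥I × V)) (a₀ : A), (∀ b : I, ∃ v, (b, v) ∈ G) →
    (∀ v, ((0 : I), v) ∈ G ↔ ∃ w, v = a₀ • w) → a₀ ≠ 0 → ∃ s : I →ₗ[A] V, ∀ b, (b, s b) ∈ G)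
  (hvan : ∀ N : X.Modules, Coh.IsQCoh N → Subsingleton (Coh.HH X N 2))
  (hM1 : Subsingleton (Coh.HH X M 1))

include hTF hΦ hsplit hvan hM1 in
theorem subsingleton_H1_Mt [X.IsSeparated] : Subsingleton (Coh.HH X (Mt F M) 1) := by
  haveI := QCohLib.isQCoh_cokernel (inc F M)
  let a₀ := F.a F.base
  let π := cokernel.π (inc F M)
  have hS : (ShortComplex.mk (inc F M) π (cokernel.condition _)).ShortExact :=
    { exact := ShortComplex.exact_of_g_is_cokernel _ (cokernelIsCokernel _)
      mono_f := inferInstanceAs (Mono (inc F M))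
      epi_g := inferInstanceAs (Epi π) }
  refine subsingleton_H1_of_surjective hS hM1 fun t => ?_
  choose x hx using fun k => OmegaAffLib.surjective_app_of_epi (φ := π) (F.affine k) (rs _ le_top t)
  -- the differences
  have hdiff : ∀ (b : I) k l, ∃ p : Γ(M, F.U k ⊓ F.U l), aF f (F.U k ⊓ F.U l) a₀ • p =
      aF f (F.U k ⊓ F.U l) (b : A) • (rs M inf_le_left (x k) - rs M inf_le_right (x l)) := by
    intro b k l
    obtain ⟨z, hz⟩ := QCohLib.exists_of_app_eq_zero hS.exact hS.mono_f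
      (rs M (inf_le_left : F.U k ⊓ F.U l ≤ F.U k) (x k) - rs M inf_le_right (x l)) (by
        show π.app _ _ = 0
        rw [map_sub, ← rs_app, ← rs_app, hx, hx, rs_rs, rs_rs, sub_self])
    obtain ⟨r, hr⟩ := F.dvd k b.1 b.2
    have hr' : aF f (F.U k ⊓ F.U l) (b : A) =
        X.presheaf.map (homOfLE inf_le_left).op r * aF f _ (F.a k) := by
      rw [← aF_res f (inf_le_left : F.U k ⊓ F.U l ≤ F.U k), hr, map_mul, aF_res]
    refine ⟨X.presheaf.map (homOfLE (inf_le_left : F.U k ⊓ F.U l ≤ F.U k)).op r • (mu F M hTF k).app _ z, ?_⟩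
    rw [smul_comm, mu_spec, smul_smul, ← hr', ← hz]
  -- the extension
  let G : Submodule A (↥I × V) :=
    { carrier := {w | ∀ k, ∃ d : Γ(M, F.U k), rs M le_top (Φ.symm w.2) - aF f (F.U k) (w.1 : A) • x k = aF f (F.U k) a₀ • d}
      zero_mem' := fun k => ⟨0, by simp⟩
      add_mem' := fun {w w'} h h' k => by
        obtain ⟨d, hd⟩ := h k
        obtain ⟨d', hd'⟩ := h' k
        refine ⟨d + d', ?_⟩
        erw [smul_add]
        rw [← hd, ← hd', Prod.snd_add, map_add, Prod.fst_add, Submodule.coe_add, map_add, rs_add, add_smul]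
        abel
      smul_mem' := fun c w h k => by
        obtain ⟨d, hd⟩ := h k
        refine ⟨aF f (F.U k) c • d, ?_⟩
        have e : Φ.symm (c • w.2) = aF f ⊤ c • Φ.symm w.2 := Φ.injective (by rw [hΦ]; simp)
        rw [smul_comm, ← hd, smul_sub, Prod.smul_snd, e, rs_aF, Prod.smul_fst, SetLike.val_smul, smul_eq_mul,
          map_mul, mul_smul] }
  have hlift : ∀ b : I, ∃ v, (b, v) ∈ G := fun b => by
    obtain ⟨q, hq⟩ := exists_glue_mod hvan F.U F.affine F.cover hM1 (sA f M a₀)
      (fun k => aF f (F.U k) (b : A) • x k) fun k l => by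
        obtain ⟨p, hp⟩ := hdiff b k l
        refine ⟨p, ?_⟩
        rw [sA_app, hp, rs_aF, rs_aF, smul_sub]
    refine ⟨Φ q, fun k => ?_⟩
    obtain ⟨p, hp⟩ := hq k
    exact ⟨p, by rw [AddEquiv.symm_apply_apply, ← hp, sA_app]⟩
  have hzero : ∀ v, ((0 : I), v) ∈ G ↔ ∃ w, v = a₀ • w := by
    intro v
    constructor
    · intro h
      choose d hd using h
      simp only [ZeroMemClass.coe_zero, map_zero, zero_smul, sub_zero] at hd
      obtain ⟨w, hw⟩ := exists_glue_top M F.U F.cover d fun k l => by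
        refine TF.cancel f hTF (F.ne F.base) ?_
        rw [← rs_aF, ← rs_aF, ← hd, ← hd, rs_rs, rs_rs]
      refine ⟨Φ w, ?_⟩
      rw [← hΦ, ← Φ.symm_apply_eq]
      refine eq_of_cover M F.U (fun _ => le_top) (fun z _ => Opens.mem_iSup.2 (F.cover z)) fun k => ?_
      rw [rs_aF, hw]
      exact hd k
    · rintro ⟨w, rfl⟩ k
      refine ⟨rs M le_top (Φ.symm w), ?_⟩
      have e : Φ.symm (a₀ • w) = aF f ⊤ a₀ • Φ.symm w := Φ.injective (by rw [hΦ]; simp)
      simp only [ZeroMemClass.coe_zero, map_zero, zero_smul, sub_zero]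
      rw [e, rs_aF]
  obtain ⟨s, hs⟩ := hsplit G a₀ hlift hzero (F.ne F.base)
  obtain ⟨v, hv⟩ : ∃ v, s ⟨a₀, F.mem _⟩ = a₀ • v := by
    refine (hzero _).1 fun k => ?_
    obtain ⟨d, hd⟩ := hs ⟨a₀, F.mem _⟩ k
    refine ⟨x k + d, ?_⟩
    rw [sub_eq_iff_eq_add] at hd
    simp only [ZeroMemClass.coe_zero, map_zero, zero_smul, sub_zero]
    rw [hd, smul_add, add_comm]
  have htfV : ∀ w w' : V, a₀ • w = a₀ • w' → w = w' := fun w w' h => Φ.symm.injective
    (TF.cancel f hTF (F.ne F.base) (Φ.injective (by rw [hΦ, hΦ]; simpa using h)))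
  have hsv : ∀ b : I, s b = (b : A) • v := fun b => htfV _ _ (by
    rw [← map_smul, show a₀ • b = (b : A) • (⟨a₀, F.mem _⟩ : I) from Subtype.ext (mul_comm _ _), map_smul, hv,
      smul_comm])
  refine ⟨Φ.symm v, ?_⟩
  haveI : Coh.IsQCoh (cokernel (inc F M)) := inferInstance
  refine eq_of_cover _ F.U (fun _ => le_top) (fun z _ => Opens.mem_iSup.2 (F.cover z)) fun k => ?_
  show rs _ le_top (π.app ⊤ (Φ.symm v)) = _
  rw [rs_app, ← hx k, ← sub_eq_zero, ← map_sub]
  obtain ⟨z, hz⟩ := exists_inc F M (rs M le_top (Φ.symm v) - x k) fun i => by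
    obtain ⟨d, hd⟩ := hs ⟨F.a i, F.mem i⟩ k
    refine ⟨d, ?_⟩
    have e : Φ.symm (F.a i • v) = aF f ⊤ (F.a i) • Φ.symm v := Φ.injective (by rw [hΦ]; simp)
    rw [← hd, smul_sub, hsv, e, rs_aF]
  rw [← hz]
  exact congrArg (fun φ : Mt F M ⟶ cokernel (inc F M) => φ.app (F.U k) z) (cokernel.condition (inc F M))

end GorBlowLib
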