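import Groth.Agent.GorBlowLib.Basic
import Groth.Agent.TraceGRLib.Main
import Mathlib

/-!
# The global sections of the dualizing module of a modification of a rational singularity
-/

set_option autoImplicit false
set_option linter.style.haveILetI false
set_option linter.unusedSectionVars false
set_option backward.isDefEq.respectTransparency false
set_option backward.isDefEq.respectTransparency.types false
set_option maxHeartbeats 2000000
set_option synthInstance.maxHeartbeats 200000

universe u

open CategoryTheory CategoryTheory.Limits CategoryTheory.Pretriangulated AlgebraicGeometry IsLocalRing DerivedCategory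
open Groth.Agent Groth.Agent.Dual3Lib
open DTenLib.Point (hH sg)

attribute [local instance] HasDerivedCategory.standard

noncomputable section

namespace GorBlowLib

/-- Maps from the structure sheaf to a module, as sections. -/
def secHom {X : Scheme.{u}} (G : X.Modules) : (Coh.structureModule X ⟶ G) ≃+ Γ(G, (⊤ : X.Opens)) :=
  { KFlatLib.unitSecEquiv G with map_add' := fun _ _ => rfl }

variable {A : Type u} [CommRing A] {X : Scheme.{u}} (f : X ⟶ Spec (CommRingCat.of A))

theorem secHom_smul (G : X.Modules) (b : A) (φ : Coh.structureModule X ⟶ G) :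
    secHom G (sA f (Coh.structureModule X) b ≫ φ) = aF f ⊤ b • secHom G φ :=
  (QCohLib.app_smul φ ⊤ (aF f ⊤ b) (show Γ(Coh.structureModule X, ⊤) from (1 : Γ(X, ⊤))))

/-- Maps out of the ring, evaluated at one. -/
def atOne (V : Type u) [AddCommGroup V] [Module A V] : (Dual.inD A A ⟶ Dual.inD A V) ≃+ V :=
  { toFun := fun φ => ((DerivedCategory.singleFunctor (ModuleCat.{u} A) 0).preimage φ).hom (1 : A)
    invFun := fun v => (DerivedCategory.singleFunctor (ModuleCat.{u} A) 0).map
      (ModuleCat.ofHom (LinearMap.toSpanSingleton A V v))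
    left_inv := fun φ => by
      conv_rhs => rw [← (DerivedCategory.singleFunctor (ModuleCat.{u} A) 0).map_preimage φ]
      refine congrArg _ (ModuleCat.hom_ext (LinearMap.ext_ring ?_))
      exact one_smul A _
    right_inv := fun v => by
      show ((DerivedCategory.singleFunctor (ModuleCat.{u} A) 0).preimage
        ((DerivedCategory.singleFunctor (ModuleCat.{u} A) 0).map
          (ModuleCat.ofHom (LinearMap.toSpanSingleton A V v)))).hom (1 : A) = v
      rw [Functor.preimage_map]
      exact one_smul A v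
    map_add' := fun φ ψ => by
      rw [show (DerivedCategory.singleFunctor (ModuleCat.{u} A) 0).preimage (φ + ψ) =
          (DerivedCategory.singleFunctor (ModuleCat.{u} A) 0).preimage φ +
            (DerivedCategory.singleFunctor (ModuleCat.{u} A) 0).preimage ψ from
        (DerivedCategory.singleFunctor (ModuleCat.{u} A) 0).map_injective (by simp)]
      rfl }

theorem atOne_smul (V : Type u) [AddCommGroup V] [Module A V] (b : A) (φ : Dual.inD A A ⟶ Dual.inD A V) :
    atOne V ((DerivedCategory.singleFunctor (ModuleCat.{u} A) 0).map (ModuleCat.ofHom (b • LinearMap.id)) ≫ φ) =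
      b • atOne V φ := by
  show ((DerivedCategory.singleFunctor (ModuleCat.{u} A) 0).preimage
    ((DerivedCategory.singleFunctor (ModuleCat.{u} A) 0).map
      (ModuleCat.ofHom (b • LinearMap.id : A →ₗ[A] A)) ≫ φ)).hom (1 : A) = _
  rw [Functor.preimage_comp, Functor.preimage_map]
  exact map_smul ((DerivedCategory.singleFunctor (ModuleCat.{u} A) 0).preimage φ).hom b (1 : A)

variable [IsDomain A] [IsLocalRing A] [IsNoetherianRing A] [IsIntegrallyClosed A]
  [PreservesFiniteLimits (tilde.functor (CommRingCat.of A))]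
  {ωA : Type u} [AddCommGroup ωA] [Module A ωA] (hω : Dual.IsDualizing A (Dual.inD A ωA))
  (hdim : ringKrullDim A = 2) [X.Over (Spec (CommRingCat.of A))]
  [DCoh.HasRpush (X ↘ Spec (CommRingCat.of A))] (hf : ModTorsLib.IsModif X (X ↘ Spec (CommRingCat.of A)))
  (h : DCoh.RpushPreservesQCoh (X ↘ Spec (CommRingCat.of A))) [DCoh.HasShriek (X ↘ Spec (CommRingCat.of A)) h]
  (W : DCoh.DQCoh (Spec (CommRingCat.of A)))
  (eW : W.obj ≅ (DCoh.tildeD (CommRingCat.of A)).obj (Dual.inD A ωA))

local notation "fX" => (X ↘ Spec (CommRingCat.of A))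

include hω hdim hf eW in
/-- The zeroth cohomology of `f^!` detects maps out of the structure sheaf. -/
theorem exists_incl : ∃ ι : DCoh.inD X (DCoh.dualizingMod fX h W 0) ⟶ ((DCoh.shriek fX h).obj W).obj,
    Function.Bijective fun y : uO X ⟶ DCoh.inD X (DCoh.dualizingMod fX h W 0) => y ≫ ι := by
  let B := (DCoh.shriek fX h).obj W
  haveI hB : B.obj.IsGE 0 := TraceGRLib.isGE_shriek hω hf hdim h W eW
  let t := DerivedCategory.TStructure.t (C := X.Modules)
  let T₀ := (t.triangleLTGE 1).obj B.obj
  have hT₀ : T₀ ∈ distTriang _ := t.triangleLTGE_distinguished 1 B.obj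
  haveI : T₀.obj₁.IsLE 0 := t.isLE_truncLT_obj B.obj 1 0 (by norm_num)
  haveI : T₀.obj₁.IsGE 0 := (DerivedCategory.isGE_iff _ _).2 fun i hi => by
    haveI := DerLib.Ghost.isIso_homologyMap_truncLTι B.obj 1 i (by omega)
    exact (isZero_of_isGE B.obj 0 i hi).of_iso (asIso ((homologyFunctor X.Modules i).map ((t.truncLTι 1).app B.obj)))
  obtain ⟨e₁⟩ := DerLib.Devissage.nonempty_iso_single T₀.obj₁ 0
  haveI := DerLib.Ghost.isIso_homologyMap_truncLTι B.obj 1 0 (by norm_num)
  let G := DCoh.dualizingMod fX h W 0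
  let e : T₀.obj₁ ≅ DCoh.inD X G := e₁ ≪≫ (singleFunctor X.Modules 0).mapIso
    (asIso ((homologyFunctor X.Modules 0).map ((t.truncLTι 1).app B.obj)) : _ ≅ G)
  haveI : T₀.obj₃.IsGE 1 := inferInstanceAs (t.IsGE _ 1)
  haveI : (uO X).IsLE 0 := inferInstanceAs (((singleFunctor X.Modules 0).obj _).IsLE 0)
  refine ⟨e.inv ≫ T₀.mor₁, fun y y' hy => ?_, fun ψ => ?_⟩
  · haveI : (T₀.invRotate.obj₁).IsGE 2 := t.isGE_shift T₀.obj₃ 1 (-1) 2 (by norm_num)
    obtain ⟨z, hz⟩ := Triangle.coyoneda_exact₂ T₀.invRotate (inv_rot_of_distTriang _ hT₀)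
      ((y - y') ≫ e.inv : uO X ⟶ T₀.invRotate.obj₂) (by
        show ((y - y') ≫ e.inv) ≫ T₀.mor₁ = 0
        rw [Category.assoc, Preadditive.sub_comp]
        exact sub_eq_zero.2 hy)
    rw [show z = 0 from t.zero (z : uO X ⟶ T₀.invRotate.obj₁) 0 2 (by norm_num), zero_comp] at hz
    exact sub_eq_zero.1 ((cancel_mono e.inv).1 (hz.trans zero_comp.symm))
  · obtain ⟨z, hz⟩ := Triangle.coyoneda_exact₂ T₀ hT₀ (ψ : uO X ⟶ T₀.obj₂)
      (t.zero (ψ ≫ T₀.mor₂ : uO X ⟶ T₀.obj₃) 0 1 (by norm_num))
    exact ⟨z ≫ e.hom, by rw [hz]; simp⟩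

include hω hdim hf eW in
/-- For a rational singularity the global sections are the dualizing module. -/
theorem exists_equiv_sections (h1 : Subsingleton (Coh.HH X (Coh.structureModule X) 1)) :
    ∃ Φ : Γ(DCoh.dualizingMod fX h W 0, (⊤ : X.Opens)) ≃+ ωA,
      ∀ (b : A) x, Φ (aF fX ⊤ b • x) = b • Φ x := by
  obtain ⟨D⟩ := TraceGRLib.exists_pushData hf hdim h
  obtain ⟨b₀, δ₀, hT⟩ := TraceGRLib.exists_triangle D.N D.a D.isZero D.isIso₀
  obtain ⟨e₁⟩ := D.h1
  haveI : Subsingleton ((hH A 1).obj D.N) := e₁.injective.subsingleton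
  haveI : IsIso D.a := TraceGRLib.isIso_of_subsingleton hT
  obtain ⟨hfull, hfaith, -⟩ := Groth.Agent.S0997.result (CommRingCat.of A)
  haveI := hfull; haveI := hfaith
  haveI : (DCoh.tildeD (CommRingCat.of A)).Additive := inferInstance
  let T := DCoh.tildeD (CommRingCat.of A)
  let G := DCoh.dualizingMod fX h W 0
  let B := ((DCoh.shriek fX h).obj W).obj
  let η : uO (Spec (CommRingCat.of A)) ⟶ (DCoh.Rpush fX).obj (uO X) := inDSpecIso.inv ≫ T.map D.a ≫ D.eN.hom
  let tr : (DCoh.Rpush fX).obj B ⟶ W.obj := ((DCoh.trace fX h).app W).hom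
  obtain ⟨ι, hι⟩ := exists_incl hω hdim hf h W eW
  obtain ⟨_, _⟩ := QRlimLib.exists_isTriangulated_rpush fX
  let Θ : (Coh.structureModule X ⟶ G) → ωA := fun φ => atOne ωA (T.preimage
    (inDSpecIso.hom ≫ (η ≫ (DCoh.Rpush fX).map ((singleFunctor X.Modules 0).map φ ≫ ι) ≫ tr) ≫ eW.hom))
  have hb : Function.Bijective Θ := by
    refine (atOne ωA).bijective.comp ?_
    let j : (uO (Spec (CommRingCat.of A)) ⟶ W.obj) → (Dual.inD A A ⟶ Dual.inD A ωA) := fun g =>
      T.preimage (inDSpecIso.hom ≫ g ≫ eW.hom)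
    have hj : Function.Bijective j := ⟨fun g g' hg => by
      have := congrArg T.map hg
      simp only [j, Functor.map_preimage] at this
      exact (cancel_mono eW.hom).1 ((cancel_epi (inDSpecIso (A := A)).hom).1 this),
      fun w => ⟨inDSpecIso.inv ≫ T.map w ≫ eW.inv, T.map_injective (by simp [j])⟩⟩
    have h2 : Function.Bijective fun φ : Coh.structureModule X ⟶ G => (singleFunctor X.Modules 0).map φ :=
      ⟨fun _ _ he => (singleFunctor X.Modules 0).map_injective he, (singleFunctor X.Modules 0).map_surjective⟩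
    have h3 := hj.comp ((TraceGRLib.bijective_comp_trace h W eW D).comp ((D.bij B).comp (hι.comp h2)))
    convert h3 using 1
    funext φ
    simp only [Function.comp_def, j, η, tr, Category.assoc]
    rfl
  have hadd : ∀ φ φ', Θ (φ + φ') = Θ φ + Θ φ' := fun φ φ' => by
    simp only [Θ]
    rw [← map_add]
    refine congrArg _ (T.map_injective ?_)
    simp [Preadditive.add_comp, Preadditive.comp_add]
  have hsm : ∀ (b : A) φ, Θ (sA fX (Coh.structureModule X) b ≫ φ) = b • Θ φ := fun b φ => by
    simp only [Θ]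
    rw [← atOne_smul]
    refine congrArg _ (T.map_injective ?_)
    have hc := sMod_rpush_comm fX ((Scheme.ΓSpecIso (CommRingCat.of A)).inv.hom b)
      (Coh.structureModule (Spec (CommRingCat.of A))) (Coh.structureModule X) η
      ((singleFunctor X.Modules 0).map φ ≫ ι)
    rw [Functor.map_preimage, Functor.map_comp T, Functor.map_preimage,
      reassoc_of% (inDSpecIso_smul b), Functor.map_comp (singleFunctor X.Modules 0)]
    simp only [Category.assoc] at hc ⊢
    have hc' := congrArg (fun k => inDSpecIso.hom ≫ (k ≫ tr) ≫ eW.hom) hc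
    simp only [Category.assoc] at hc'
    exact hc'.symm
  refine ⟨(secHom G).symm.trans (AddEquiv.mk' (Equiv.ofBijective Θ hb) hadd), fun b x => ?_⟩
  show Θ ((secHom G).symm (aF fX ⊤ b • x)) = b • Θ ((secHom G).symm x)
  rw [← hsm]
  refine congrArg _ ((secHom G).injective ?_)
  rw [AddEquiv.apply_symm_apply, secHom_smul, AddEquiv.apply_symm_apply]

end GorBlowLib
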