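import Groth.Agent.GorBlowLib.Neg

/-!
# Sections divisible by a power of the ideal come from products
-/

set_option autoImplicit false
set_option linter.style.haveILetI false
set_option linter.unusedSectionVars false
set_option backward.isDefEq.respectTransparency false
set_option backward.isDefEq.respectTransparency.types false
set_option maxHeartbeats 2000000

universe u

open CategoryTheory CategoryTheory.Limits AlgebraicGeometry TopologicalSpace Opposite
open Groth.Agent

noncomputable section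

namespace GorBlowLib

variable {A : Type u} [CommRing A] {X : Scheme.{u}} {f : X ⟶ Spec (CommRingCat.of A)} {I : Ideal A}
  (F : Frame f I) (M : X.Modules) [Coh.IsQCoh M] (hTF : TF f M)

/-- Divisible by the `N`th power of the ideal. -/
def InP (N : ℕ) (t : Γ(M, (⊤ : X.Opens))) : Prop :=
  ∀ k, ∃ σ : Γ(M, F.U k), aF f (F.U k) (F.a k ^ N) • σ = rs M le_top t

/-- The index of the relations. -/
abbrev PairIdx : Type := Fin F.n × Fin F.n

/-- The relations between the generators. -/
def rel (N : ℕ) : (⨁ fun _ : PairIdx F => Mt F M) ⟶ ⨁ fun _ : Fin F.n => M :=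
  biproduct.desc fun p =>
    mu F M hTF p.2 ≫ sA f M (F.a p.1 ^ N) ≫ biproduct.ι (fun _ : Fin F.n => M) p.1 -
      mu F M hTF p.1 ≫ sA f M (F.a p.1 ^ N) ≫ biproduct.ι (fun _ : Fin F.n => M) p.2

/-- The sum map. -/
def sumMap : (⨁ fun _ : Fin F.n => M) ⟶ M := biproduct.desc fun i => sA f M (F.a i)

local notation "ιM" => biproduct.ι (fun _ : Fin (Frame.n F) => M)
local notation "πM" => biproduct.π (fun _ : Fin (Frame.n F) => M)
local notation "ιP" => biproduct.ι (fun _ : PairIdx F => Mt F M)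
local notation "πP" => biproduct.π (fun _ : PairIdx F => Mt F M)

theorem rel_ι (N : ℕ) (p : PairIdx F) (U : X.Opens) (z : Γ(Mt F M, U)) :
    (rel F M hTF N).app U ((ιP p).app U z) =
      (ιM p.1).app U (aF f U (F.a p.1 ^ N) • (mu F M hTF p.2).app U z) -
        (ιM p.2).app U (aF f U (F.a p.1 ^ N) • (mu F M hTF p.1).app U z) :=
  (bi_ι_desc (fun _ : PairIdx F => Mt F M) _ p U z).trans rfl

theorem sumMap_ι (i : Fin F.n) (U : X.Opens) (w : Γ(M, U)) :
    (sumMap F M).app U ((ιM i).app U w) = aF f U (F.a i) • w :=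
  bi_ι_desc (fun _ : Fin F.n => M) _ i U w

include hTF in
theorem sumMap_rel (N : ℕ) (U : X.Opens) (p : Γ(⨁ fun _ : PairIdx F => Mt F M, U)) :
    (sumMap F M).app U ((rel F M hTF N).app U p) = 0 := by
  conv_lhs => rw [← bi_total (fun _ : PairIdx F => Mt F M) U p]
  rw [map_sum, map_sum]
  refine Finset.sum_eq_zero fun j _ => ?_
  rw [rel_ι, map_sub, sumMap_ι, sumMap_ι, sub_eq_zero]
  refine TF.cancel f hTF (F.ne F.base) ?_
  simp only [smul_smul]
  rw [show aF f U (F.a F.base) * (aF f U (F.a j.1) * aF f U (F.a j.1 ^ N)) =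
      aF f U (F.a j.1) * aF f U (F.a j.1 ^ N) * aF f U (F.a F.base) by ring,
    show aF f U (F.a F.base) * (aF f U (F.a j.2) * aF f U (F.a j.1 ^ N)) =
      aF f U (F.a j.2) * aF f U (F.a j.1 ^ N) * aF f U (F.a F.base) by ring,
    mul_smul _ _ ((mu F M hTF j.2).app U _), mul_smul _ _ ((mu F M hTF j.1).app U _), mu_spec, mu_spec,
    smul_smul, smul_smul]
  congr 1
  ring

include hTF in
theorem exists_coord_rel (N : ℕ) (k i : Fin F.n) (p : Γ(⨁ fun _ : PairIdx F => Mt F M, F.U k)) :
    ∃ d, (πM i).app (F.U k) ((rel F M hTF N).app (F.U k) p) = aF f (F.U k) (F.a k ^ N) • d := by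
  obtain h := bi_total (fun _ : PairIdx F => Mt F M) (F.U k) p
  rw [← h, map_sum, map_sum]
  have hj : ∀ j : PairIdx F, ∃ d, (πM i).app (F.U k) ((rel F M hTF N).app (F.U k) ((ιP j).app (F.U k)
      ((πP j).app (F.U k) p))) = aF f (F.U k) (F.a k ^ N) • d := by
    intro j
    obtain ⟨r, hr⟩ := F.dvd k (F.a j.1) (F.mem _)
    have hc : ∀ (b : Fin F.n) (w : Γ(M, F.U k)), ∃ d,
        (πM i).app (F.U k) ((ιM b).app (F.U k) (aF f (F.U k) (F.a j.1 ^ N) • w)) =
          aF f (F.U k) (F.a k ^ N) • d := by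
      intro b w
      rcases eq_or_ne b i with rfl | hb
      · refine ⟨r ^ N • w, ?_⟩
        rw [bi_π_ι_self, map_pow, hr, mul_pow, mul_comm, mul_smul, ← map_pow]
      · exact ⟨0, by rw [bi_π_ι_ne _ hb, smul_zero]⟩
    obtain ⟨d, hd⟩ := hc j.1 ((mu F M hTF j.2).app _ ((πP j).app (F.U k) p))
    obtain ⟨d', hd'⟩ := hc j.2 ((mu F M hTF j.1).app _ ((πP j).app (F.U k) p))
    exact ⟨d - d', by rw [rel_ι, map_sub, hd, hd', smul_sub]⟩
  choose d hd using hj
  exact ⟨∑ j, d j, by rw [Finset.smul_sum]; exact Finset.sum_congr rfl fun j _ => hd j⟩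

variable (hMt : Subsingleton (Coh.HH X (Mt F M) 1))
  (hvan : ∀ N : X.Modules, Coh.IsQCoh N → Subsingleton (Coh.HH X N 2))

include hTF hMt hvan in
/-- A section divisible by the `N + 1`st power is a combination of ones divisible by the `N`th. -/
theorem exists_decomp [CompactSpace X] [X.IsSeparated] (N : ℕ) (t : Γ(M, (⊤ : X.Opens)))
    (ht : InP F M (N + 1) t) :
    ∃ q : Fin F.n → Γ(M, (⊤ : X.Opens)), (∀ i, InP F M N (q i)) ∧
      t = ∑ i, aF f ⊤ (F.a i) • q i := by
  choose σ hσ using ht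
  haveI := isQCoh_bi (fun _ : PairIdx F => Mt F M) fun _ => inferInstance
  haveI := isQCoh_bi (fun _ : Fin F.n => M) fun _ => inferInstance
  have hP := subsingleton_HH_bi (fun _ : PairIdx F => Mt F M) (fun _ => inferInstance) 1 fun _ => hMt
  obtain ⟨q, hq⟩ := exists_glue_mod hvan F.U F.affine F.cover hP (rel F M hTF N)
    (fun k => (ιM k).app (F.U k) (aF f (F.U k) (F.a k ^ N) • σ k)) fun k l => by
      obtain ⟨r₀, hr₀⟩ := F.dvd l (F.a F.base) (F.mem _)
      let W := F.U k ⊓ F.U l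
      let r : Γ(X, W) := X.presheaf.map (homOfLE (inf_le_right : W ≤ F.U l)).op r₀
      have hr : aF f W (F.a F.base) = r * aF f W (F.a l) := by
        rw [← aF_res f (inf_le_right : W ≤ F.U l), hr₀, map_mul, aF_res]
      let s : Γ(M, W) := rs M (inf_le_left : W ≤ F.U k) (σ k)
      obtain ⟨z, hz⟩ := exists_inc F M (r • s) fun i => by
        obtain ⟨g₀, hg₀⟩ := F.dvd l (F.a i) (F.mem _)
        refine ⟨X.presheaf.map (homOfLE (inf_le_right : W ≤ F.U l)).op g₀ • s, ?_⟩
        rw [smul_smul, smul_smul, ← aF_res f (inf_le_right : W ≤ F.U l) (F.a i), hg₀, map_mul, aF_res, hr]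
        congr 1
        ring
      have hs : aF f W (F.a k ^ (N + 1)) • s = aF f W (F.a l ^ (N + 1)) • rs M inf_le_right (σ l) := by
        rw [← rs_aF, ← rs_aF, hσ, hσ, rs_rs, rs_rs]
      refine ⟨(ιP (k, l)).app W z, ?_⟩
      rw [rel_ι, rs_app, rs_app, rs_aF, rs_aF]
      congr 1
      · refine congrArg (fun w => (ιM k).app W (aF f W (F.a k ^ N) • w)) ?_
        refine TF.cancel f hTF (F.ne F.base) ?_
        rw [mu_spec, hz, smul_smul, hr, mul_comm r]
      · refine congrArg (fun w => (ιM l).app W w) ?_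
        refine TF.cancel f hTF (F.ne F.base) ?_
        show aF f W (F.a F.base) • aF f W (F.a k ^ N) • (mu F M hTF k).app W z = _
        rw [smul_comm, mu_spec, hz, smul_smul, smul_smul, smul_smul, hr,
          show aF f W (F.a k ^ N) * aF f W (F.a k) * r = r * aF f W (F.a k ^ (N + 1)) by
            rw [pow_succ, map_mul]; ring,
          mul_smul r, hs, smul_smul]
        congr 1
        rw [pow_succ, map_mul]; ring
  refine ⟨fun i => (πM i).app ⊤ q, fun i k => ?_, ?_⟩
  · obtain ⟨p, hp⟩ := hq k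
    obtain ⟨d, hd⟩ := exists_coord_rel F M hTF N k i p
    have e : rs M le_top ((πM i).app ⊤ q) = aF f (F.U k) (F.a k ^ N) • d +
        (πM i).app (F.U k) ((ιM k).app (F.U k) (aF f (F.U k) (F.a k ^ N) • σ k)) := by
      rw [← hd, ← map_add, hp, sub_add_cancel, rs_app]
    rcases eq_or_ne k i with rfl | hki
    · exact ⟨d + σ k, by rw [e, bi_π_ι_self, smul_add]⟩
    · exact ⟨d, by rw [e, bi_π_ι_ne _ hki, add_zero]⟩
  · refine Eq.trans (Eq.symm ?_) (Finset.sum_congr rfl fun i _ => sumMap_ι F M i ⊤ _)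
    rw [← map_sum, bi_total]
    refine eq_of_cover M F.U (fun _ => le_top) (fun z _ => Opens.mem_iSup.2 (F.cover z)) fun k => ?_
    obtain ⟨p, hp⟩ := hq k
    have h := sumMap_rel F M hTF N (F.U k) p
    rw [hp, map_sub, sumMap_ι, sub_eq_zero] at h
    rw [rs_app, h, smul_smul, ← map_mul, ← pow_succ', hσ]

include hTF hMt hvan in
/-- Sections divisible by a power are, locally, generated by global sections. -/
theorem mem_span_of_inP [CompactSpace X] [X.IsSeparated] : ∀ (N : ℕ) (t : Γ(M, (⊤ : X.Opens))),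
    InP F M N t → ∀ k, ∃ y ∈ Submodule.span Γ(X, F.U k) (Set.range (rs M (le_top : F.U k ≤ ⊤))),
      rs M le_top t = aF f (F.U k) (F.a k ^ N) • y
  | 0, t, _, k => ⟨_, Submodule.subset_span ⟨t, rfl⟩, by rw [pow_zero, map_one, one_smul]⟩
  | N + 1, t, ht, k => by
    obtain ⟨q, hq, he⟩ := exists_decomp F M hTF hMt hvan N t ht
    choose y hy hy' using fun i => mem_span_of_inP N (q i) (hq i) k
    choose r hr using fun i => F.dvd k (F.a i) (F.mem i)
    refine ⟨∑ i, r i • y i, Submodule.sum_mem _ fun i _ => Submodule.smul_mem _ _ (hy i), ?_⟩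
    rw [he, Finset.smul_sum]
    refine (map_sum (M.presheaf.map (homOfLE (le_top : F.U k ≤ ⊤)).op).hom _ _).trans
      (Finset.sum_congr rfl fun i _ => ?_)
    show rs M le_top _ = _
    rw [rs_aF, hy', hr, smul_smul, smul_smul, pow_succ, map_mul]
    congr 1
    ring

end GorBlowLib
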