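import Groth.Agent.GorBlowLib.Basic
import Groth.Agent.AmpleLib.Gen
import Groth.Agent.ModTorsLib.Strict

/-!
# Torsion-free stalks give torsion-free sections
-/

set_option autoImplicit false
set_option linter.style.haveILetI false
set_option linter.unusedSectionVars false
set_option backward.isDefEq.respectTransparency false
set_option backward.isDefEq.respectTransparency.types false
set_option maxHeartbeats 1000000

universe u

open CategoryTheory CategoryTheory.Limits AlgebraicGeometry TopologicalSpace Opposite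
open Groth.Agent

noncomputable section

namespace GorBlowLib

variable {A : Type u} [CommRing A] [IsDomain A] {X : Scheme.{u}} (f : X ⟶ Spec (CommRingCat.of A)) [IsIntegral X]
  (M : X.Modules) [Coh.IsQCoh M] (htf : ∀ x : X, Module.IsTorsionFree (X.presheaf.stalk x) (M.presheaf.stalk x))

include htf in
theorem smul_germ_eq_zero {x : X} {c : X.presheaf.stalk x} {m : M.presheaf.stalk x} (h : c • m = 0) :
    c = 0 ∨ m = 0 := by
  haveI := htf x
  exact smul_eq_zero.1 h

include htf in
theorem eq_zero_of_smul {U : X.Opens} (g : Γ(X, U)) (hg : g ≠ 0) (s : Γ(M, U)) (h : g • s = 0) : s = 0 := by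
  refine TopCat.Presheaf.section_ext ((QCohLib.toAbF X).obj M) U s 0 fun x hx => ?_
  have h1 : M.presheaf.germ U x hx (g • s) = 0 := by rw [h]; exact map_zero _
  rw [AmpleLib.germ_smul] at h1
  rcases smul_germ_eq_zero M htf h1 with h2 | h2
  · haveI : Nonempty U := ⟨⟨x, hx⟩⟩
    exact absurd (germ_injective_of_isIntegral X x hx (h2.trans (map_zero _).symm)) hg
  · exact h2.trans (map_zero (M.presheaf.germ U x hx).hom).symm

include htf in
theorem tf_of_torsionFree (hinj : ∀ b : A, b ≠ 0 → Coh.toGlobal f b ≠ 0) : TF f M := fun U b hb s hs => by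
  refine TopCat.Presheaf.section_ext ((QCohLib.toAbF X).obj M) U s 0 fun x hx => ?_
  have h1 : M.presheaf.germ U x hx (aF f U b • s) = 0 := by rw [hs]; exact map_zero _
  rw [AmpleLib.germ_smul] at h1
  rcases smul_germ_eq_zero M htf h1 with h2 | h2
  · haveI : Nonempty (⊤ : X.Opens) := ⟨⟨x, trivial⟩⟩
    refine absurd (germ_injective_of_isIntegral X x (show x ∈ (⊤ : X.Opens) from trivial) ?_) (hinj b hb)
    rw [map_zero, ← h2]
    exact (TopCat.Presheaf.germ_res_apply X.presheaf (homOfLE le_top) x hx _).symm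
  · exact h2.trans (map_zero (M.presheaf.germ U x hx).hom).symm

include htf in
/-- A nonzero global section has nonzero germs. -/
theorem rs_ne_zero {e : Γ(M, (⊤ : X.Opens))} (he : e ≠ 0) {V : X.Opens} (hV : (V : Set X).Nonempty) :
    rs M (le_top : V ≤ ⊤) e ≠ 0 := fun h0 => by
  refine he (eq_of_cover M (fun U : X.affineOpens => U.1) (fun _ => le_top) ?_ fun U => ?_)
  · intro z _
    obtain ⟨U, hU, hzU, -⟩ := exists_isAffineOpen_mem_and_subset (x := z) (U := (⊤ : X.Opens)) trivial
    exact Opens.mem_iSup.2 ⟨⟨U, hU⟩, hzU⟩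
  rw [rs_zero]
  rcases Set.eq_empty_or_nonempty (U.1 : Set X) with hU | hU
  · refine eq_of_cover M (ι := PEmpty.{u+1}) (fun i => i.elim) (fun i => i.elim) (fun z hz => ?_) fun i => i.elim
    exact absurd hz (by rw [← SetLike.mem_coe, hU]; exact id)
  · have hg : ∀ (W : X.Opens), (W : Set X).Nonempty → genericPoint X ∈ W := fun W hW =>
      ((genericPoint_spec X).mem_open_set_iff W.2).2 (by simpa using hW)
    obtain ⟨c, hcV, hc⟩ := U.2.exists_basicOpen_le (V := V) ⟨genericPoint X, hg V hV⟩ (hg U.1 hU)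
    have hc0 : c ≠ 0 := fun h => by
      rw [h, Scheme.basicOpen_zero] at hc
      exact hc
    obtain ⟨n, hn⟩ := (QCohLib.localizingAt_of_isQCoh U.2 M c).eq_zero (rs M le_top e) (by
      show rs M (X.basicOpen_le c) (rs M le_top e) = 0
      rw [rs_rs, ← rs_rs M (le_top : V ≤ ⊤) hcV, h0, rs_zero])
    haveI : Nonempty U.1 := hU.to_subtype
    refine eq_zero_of_smul M htf _ (pow_ne_zero n hc0) _ ?_
    have e1 : X.presheaf.map (homOfLE (le_refl U.1)).op c = c :=
      congrArg (fun φ : Γ(X, U.1) ⟶ Γ(X, U.1) => φ.hom c) (X.presheaf.map_id (op U.1))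
    rwa [e1] at hn

end GorBlowLib
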